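import Cfsg.Agent.Lib.OrthMult.Two.Eight.Frame
import Cfsg.Agent.Lib.Chev.StStem

/-!
# Two commuting short elements have commuting lifts
-/

set_option autoImplicit false
set_option linter.unusedSectionVars false
set_option maxRecDepth 20000

namespace Cfsg.Lib.OrthMult.Two.Eight

open Cfsg.Lib.Linear.Orth
open Cfsg.Lib.OrthMult (glOf mem_ker)
open scoped Matrix commutatorElement

variable {E : Type} [Group E] (σ : E →* ↥(Root Qm Bm ⊤))

open scoped Classical in
/-- A chosen lift. -/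
noncomputable def liftM (g : GL I8m (ZMod 2)) : E := if h : ∃ e, glOf σ e = g then h.choose else 1

/-- The commutator of the chosen lifts. -/
noncomputable def cmM (g h : GL I8m (ZMod 2)) : E := ⁅liftM σ g, liftM σ h⁆

variable (hs : Function.Surjective σ) (hc : σ.ker ≤ Subgroup.center E)

include hs in
theorem exists_lift {l : List Vm} (h : unitsB l = true) (hlen : l.length % 2 = 0) :
    ∃ e, glOf σ e = wGL l := by
  obtain ⟨e, he⟩ := hs ⟨_, wGL_mem h hlen⟩
  exact ⟨e, congrArg Subtype.val he⟩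

include hc in
theorem cm_eq {a b : E} {g h : GL I8m (ZMod 2)} (ha : glOf σ a = g) (hb : glOf σ b = h) :
    cmM σ g h = ⁅a, b⁆ := by
  have key : ∀ (x : E) (y : GL I8m (ZMod 2)), glOf σ x = y → x⁻¹ * liftM σ y ∈ Subgroup.center E := by
    intro x y hx
    have h1 : glOf σ (liftM σ y) = y := by
      have he : ∃ e, glOf σ e = y := ⟨x, hx⟩
      rw [liftM, dif_pos he]
      exact he.choose_spec
    exact hc (mem_ker σ (by rw [map_mul, map_inv, hx, h1, inv_mul_cancel]))
  have e := Cfsg.Lib.Chev.comm_mul_central (a := a) (b := b) (key a g ha) (key b h hb)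
  rw [mul_inv_cancel_left, mul_inv_cancel_left] at e
  exact e

include hc in
theorem comm_central {a b : E} (h : glOf σ a * glOf σ b = glOf σ b * glOf σ a) :
    ⁅a, b⁆ ∈ Subgroup.center E :=
  hc (mem_ker σ (by
    rw [map_commutatorElement, commutatorElement_eq_one_iff_mul_comm]
    exact h))

include hs hc in
theorem cm_conj {g h g' h' k : List Vm} (hgh : sameW (g ++ h) (h ++ g) = true)
    (hk : unitsB k = true) (hkl : k.length % 2 = 0)
    (hg : sameW (k ++ g) (g' ++ k) = true) (hh : sameW (k ++ h) (h' ++ k) = true)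
    (lg : g.length % 2 = 0) (lh : h.length % 2 = 0) :
    cmM σ (wGL g') (wGL h') = cmM σ (wGL g) (wGL h) := by
  have e1 := wGL_eq hgh
  have e2 := wGL_eq hg
  have e3 := wGL_eq hh
  simp only [wGL_append] at e1 e2 e3
  simp only [sameW, unitsB, Bool.and_eq_true, List.all_append] at hgh
  obtain ⟨a, ha⟩ := exists_lift σ hs (l := g) hgh.1.1.1 lg
  obtain ⟨b, hb⟩ := exists_lift σ hs (l := h) hgh.1.1.2 lh
  obtain ⟨e, he⟩ := exists_lift σ hs hk hkl
  have hga : glOf σ (e * a * e⁻¹) = wGL g' := by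
    rw [map_mul, map_mul, map_inv, he, ha, e2, mul_inv_cancel_right]
  have hgb : glOf σ (e * b * e⁻¹) = wGL h' := by
    rw [map_mul, map_mul, map_inv, he, hb, e3, mul_inv_cancel_right]
  rw [cm_eq σ hc hga hgb, cm_eq σ hc ha hb]
  have hcen : ⁅a, b⁆ ∈ Subgroup.center E := comm_central σ hc (by rw [ha, hb]; exact e1)
  calc ⁅e * a * e⁻¹, e * b * e⁻¹⁆ = e * ⁅a, b⁆ * e⁻¹ := by simp only [commutatorElement_def]; group
    _ = ⁅a, b⁆ := by rw [Subgroup.mem_center_iff.1 hcen e, mul_inv_cancel_right]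

include hs hc in
theorem cm_mul_right {g h h' : List Vm} (hgh : sameW (g ++ h) (h ++ g) = true)
    (hgh' : sameW (g ++ h') (h' ++ g) = true)
    (lg : g.length % 2 = 0) (lh : h.length % 2 = 0) (lh' : h'.length % 2 = 0) :
    cmM σ (wGL g) (wGL (h ++ h')) = cmM σ (wGL g) (wGL h) * cmM σ (wGL g) (wGL h') := by
  have e1 := wGL_eq hgh'
  simp only [wGL_append] at e1
  simp only [sameW, unitsB, Bool.and_eq_true, List.all_append] at hgh hgh'
  obtain ⟨a, ha⟩ := exists_lift σ hs (l := g) hgh.1.1.1 lg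
  obtain ⟨b, hb⟩ := exists_lift σ hs (l := h) hgh.1.1.2 lh
  obtain ⟨b', hb'⟩ := exists_lift σ hs (l := h') hgh'.1.1.2 lh'
  rw [cm_eq σ hc ha hb, cm_eq σ hc ha hb', cm_eq σ hc ha (b := b * b') (by rw [map_mul, hb, hb', wGL_append])]
  have hcen : ⁅a, b'⁆ ∈ Subgroup.center E := comm_central σ hc (by rw [ha, hb']; exact e1)
  calc ⁅a, b * b'⁆ = ⁅a, b⁆ * (b * ⁅a, b'⁆ * b⁻¹) := by simp only [commutatorElement_def]; group
    _ = ⁅a, b⁆ * ⁅a, b'⁆ := by rw [Subgroup.mem_center_iff.1 hcen b, mul_inv_cancel_right]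

include hs hc in
theorem cm_mul_left {g g' h : List Vm} (hgh : sameW (g ++ h) (h ++ g) = true)
    (hgh' : sameW (g' ++ h) (h ++ g') = true)
    (lg : g.length % 2 = 0) (lg' : g'.length % 2 = 0) (lh : h.length % 2 = 0) :
    cmM σ (wGL (g ++ g')) (wGL h) = cmM σ (wGL g') (wGL h) * cmM σ (wGL g) (wGL h) := by
  have e1 := wGL_eq hgh'
  simp only [wGL_append] at e1
  simp only [sameW, unitsB, Bool.and_eq_true, List.all_append] at hgh hgh'
  obtain ⟨a, ha⟩ := exists_lift σ hs (l := g) hgh.1.1.1 lg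
  obtain ⟨b, hb⟩ := exists_lift σ hs (l := h) hgh.1.1.2 lh
  obtain ⟨a', ha'⟩ := exists_lift σ hs (l := g') hgh'.1.1.1 lg'
  rw [cm_eq σ hc ha hb, cm_eq σ hc ha' hb, cm_eq σ hc (a := a * a') (by rw [map_mul, ha, ha', wGL_append]) hb]
  have hcen : ⁅a', b⁆ ∈ Subgroup.center E := comm_central σ hc (by rw [ha', hb]; exact e1)
  calc ⁅a * a', b⁆ = (a * ⁅a', b⁆ * a⁻¹) * ⁅a, b⁆ := by simp only [commutatorElement_def]; group
    _ = ⁅a', b⁆ * ⁅a, b⁆ := by rw [Subgroup.mem_center_iff.1 hcen a, mul_inv_cancel_right]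

include hs hc in
/-- The lifts of two commuting short elements commute. -/
theorem cm_short_eq_one : cmM σ (wGL (sR (ee 0) (zz 0))) (wGL (sR (ee 1) (zz 0))) = 1 := by
  let R : Fin 3 → List Vm := fun j => sR (ee j) (zz 0)
  let R12 := sR (ee 1 + ee 2) (zz 0)
  let d := cmM σ (wGL (R 0)) (wGL (R 1))
  have k1 : cmM σ (wGL (R 0)) (wGL R12) = d :=
    cm_conj σ hs hc (k := sL (ee 2) (ff 1)) (by decide +kernel) (by decide +kernel) (by simp [R, R12, sR, sL, omW, ellW])
      (by decide +kernel) (by decide +kernel) (by simp [R, R12, sR, sL, omW, ellW]) (by simp [R, R12, sR, sL, omW, ellW])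
  have k2 : cmM σ (wGL (R 0)) (wGL R12) = cmM σ (wGL (R 0)) (wGL (R 2)) :=
    cm_conj σ hs hc (k := sL (ee 1) (ff 2)) (by decide +kernel) (by decide +kernel) (by simp [R, R12, sR, sL, omW, ellW])
      (by decide +kernel) (by decide +kernel) (by simp [R, R12, sR, sL, omW, ellW]) (by simp [R, R12, sR, sL, omW, ellW])
  -- the long element is linear in the vector of the plane
  let e : Fin 3 → E := fun k => cmM σ (wGL (sR (ee 0) (ww k))) (wGL ellW)
  have h01 : e 1 = e 0 :=
    cm_conj σ hs hc (k := omW) (by decide +kernel) (by decide +kernel) (by simp [R, R12, sR, sL, omW, ellW]) (by decide +kernel)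
      (by decide +kernel) (by simp [R, R12, sR, sL, omW, ellW]) (by simp [R, R12, sR, sL, omW, ellW])
  have h12 : e 2 = e 1 :=
    cm_conj σ hs hc (k := omW) (by decide +kernel) (by decide +kernel) (by simp [R, R12, sR, sL, omW, ellW]) (by decide +kernel)
      (by decide +kernel) (by simp [R, R12, sR, sL, omW, ellW]) (by simp [R, R12, sR, sL, omW, ellW])
  have hsum : e 2 = e 1 * e 0 := by
    show cmM σ (wGL (sR (ee 0) (ww 2))) (wGL ellW) = _
    rw [wGL_eq (l' := sR (ee 0) (ww 0) ++ sR (ee 0) (ww 1)) (by decide +kernel)]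
    exact cm_mul_left σ hs hc (by decide +kernel) (by decide +kernel) (by simp [R, R12, sR, sL, omW, ellW]) (by simp [R, R12, sR, sL, omW, ellW]) (by simp [R, R12, sR, sL, omW, ellW])
  have he0 : e 0 = 1 := by
    rw [h12, left_eq_mul] at hsum
    exact hsum
  have he0' : cmM σ (wGL (R 0)) (wGL ellW) = 1 := he0
  have hprod : cmM σ (wGL (R 0)) (wGL R12) = d * d := by
    rw [wGL_eq (l := R12) (l' := ellW ++ (R 1 ++ R 2)) (by decide +kernel),
      cm_mul_right σ hs hc (by decide +kernel) (by decide +kernel) (by simp [R, R12, sR, sL, omW, ellW]) (by simp [R, R12, sR, sL, omW, ellW]) (by simp [R, R12, sR, sL, omW, ellW]),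
      cm_mul_right σ hs hc (by decide +kernel) (by decide +kernel) (by simp [R, R12, sR, sL, omW, ellW]) (by simp [R, R12, sR, sL, omW, ellW]) (by simp [R, R12, sR, sL, omW, ellW]), he0', one_mul,
      ← k2, k1]
  rw [k1, left_eq_mul] at hprod
  exact hprod

end Cfsg.Lib.OrthMult.Two.Eight
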