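import Cfsg.Agent.Lib.OrthMult.Two.Step
import Cfsg.Agent.Lib.Linear.OrthForms

/-!
# Words of reflections of the eight-dimensional minus space over two elements
-/

set_option autoImplicit false
set_option linter.unusedSectionVars false
set_option maxRecDepth 20000

namespace Cfsg.Lib.OrthMult.Two.Eight

open Cfsg.Lib.Linear.Orth
open scoped Matrix

/-- The coordinates. -/
abbrev I8m := (Fin 3 ⊕ Fin 3) ⊕ Fin 2

/-- The space. -/
abbrev Vm := I8m → ZMod 2

/-- The form of minus type. -/
abbrev Qm : Vm → ZMod 2 := Cfsg.quadFormMinus 3 (ZMod 2) 1 1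

theorem aniso_plane : ∀ z₁ z₂ : ZMod 2, z₁ ^ 2 + 1 * z₁ * z₂ + 1 * z₂ ^ 2 = 0 → z₁ = 0 ∧ z₂ = 0 := by
  decide

/-- The polar form as a bilinear form. -/
noncomputable def Bm : LinearMap.BilinForm (ZMod 2) Vm := (exists_space_minus 3 1 1 aniso_plane).choose

theorem space_m : Space Qm Bm := (exists_space_minus 3 1 1 aniso_plane).choose_spec

theorem two_zero : (2 : ZMod 2) = 0 := by decide

theorem card_I8m : Fintype.card I8m = 2 * 3 + 2 := by simp

/-- The computable polar form. -/
def pb (u v : Vm) : ZMod 2 := Qm (u + v) - Qm u - Qm v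

theorem Bm_apply (u v : Vm) : Bm u v = pb u v := (space_m.polar u v).symm

/-- The computable reflection. -/
def rf (v x : Vm) : Vm := x + pb v x • v

/-- The action of a word of reflections. -/
def wAct (l : List Vm) (x : Vm) : Vm := l.foldr rf x

/-- All letters have norm one. -/
def unitsB (l : List Vm) : Bool := l.all fun v => Qm v == 1

theorem unit_of_mem {l : List Vm} (h : unitsB l = true) {v : Vm} (hv : v ∈ l) : Qm v = 1 := by
  simpa using List.all_eq_true.1 h v hv

/-- The element of a word of reflections. -/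
noncomputable def wGL (l : List Vm) : GL I8m (ZMod 2) := (l.map (rGL Qm)).prod

theorem wGL_nil : wGL [] = 1 := rfl

theorem wGL_cons (v : Vm) (l : List Vm) : wGL (v :: l) = rGL Qm v * wGL l := List.prod_cons

theorem wGL_append (l l' : List Vm) : wGL (l ++ l') = wGL l * wGL l' := by
  simp [wGL]

theorem rGL_rf {v : Vm} (hv : Qm v = 1) (x : Vm) : (rGL Qm v).val *ᵥ x = rf v x := by
  rw [rGL_act space_m (by rw [hv]; exact one_ne_zero), hv, inv_one, one_mul, Bm_apply, rf,
    sub_eq_add_neg, ← neg_smul, CharTwo.neg_eq]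

theorem wGL_act : ∀ {l : List Vm}, unitsB l = true → ∀ x, (wGL l).val *ᵥ x = wAct l x
  | [], _, x => by rw [wGL_nil, Units.val_one, Matrix.one_mulVec]; rfl
  | v :: l, h, x => by
    have hv := unit_of_mem h (List.mem_cons_self ..)
    have hl : unitsB l = true := by
      simp only [unitsB, List.all_cons, Bool.and_eq_true] at h
      exact h.2
    rw [wGL_cons, mul_act, wGL_act hl, rGL_rf hv]
    rfl

/-- Two words act alike on the basis. -/
def sameW (l l' : List Vm) : Bool :=
  unitsB l && unitsB l' && decide (∀ i : I8m, wAct l (Pi.single i 1) = wAct l' (Pi.single i 1))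

theorem wGL_eq {l l' : List Vm} (h : sameW l l' = true) : wGL l = wGL l' := by
  simp only [sameW, Bool.and_eq_true, decide_eq_true_eq] at h
  obtain ⟨⟨hl, hl'⟩, he⟩ := h
  refine Units.ext (Matrix.ext_of_mulVec_single fun i => ?_)
  rw [wGL_act hl, wGL_act hl', he i]

theorem wGL_mem : ∀ {l : List Vm}, unitsB l = true → l.length % 2 = 0 → wGL l ∈ Root Qm Bm ⊤
  | [], _, _ => one_mem _
  | [v], _, h => by simp at h
  | v :: w :: l, h, hlen => by
    have hv := unit_of_mem h (List.mem_cons_self ..)
    have hw := unit_of_mem h (List.mem_cons_of_mem _ (List.mem_cons_self ..))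
    have hl : unitsB l = true := by
      simp only [unitsB, List.all_cons, Bool.and_eq_true] at h
      exact h.2.2
    have hlen' : l.length % 2 = 0 := by simp only [List.length_cons] at hlen; omega
    rw [wGL_cons, wGL_cons, ← mul_assoc]
    refine mul_mem ?_ (wGL_mem hl hlen')
    have hv0 : Qm v ≠ 0 := by rw [hv]; exact one_ne_zero
    have hw0 : Qm w ≠ 0 := by rw [hw]; exact one_ne_zero
    rw [← omegaGL_eq space_m (by rw [card_I8m]; norm_num)]
    exact ⟨rI space_m v hv0 * rI space_m w hw0,
      rI_mul_mem_comm space_m (Or.inr (by rw [card_I8m]; norm_num)) hv0 hw0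
        (by rw [hv, hw, div_one]; exact IsSquare.one), rfl⟩

/-- A basis vector. -/
def ee (i : Fin 3) : Vm := Pi.single (Sum.inl (Sum.inl i)) 1

/-- The partner of a basis vector. -/
def ff (i : Fin 3) : Vm := Pi.single (Sum.inl (Sum.inr i)) 1

/-- The basis of the anisotropic plane. -/
def zz (i : Fin 2) : Vm := Pi.single (Sum.inr i) 1

/-- The three norm one vectors of the plane. -/
def ww : Fin 3 → Vm := ![zz 0, zz 1, zz 0 + zz 1]

/-- The short word at a singular vector and a norm one vector. -/
def sR (t w : Vm) : List Vm := [t + w, w]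

/-- The long word at two singular vectors. -/
def sL (t s : Vm) : List Vm := sR (t + s) (zz 0) ++ (sR t (zz 0) ++ sR s (zz 0))

/-- An element of order three on the plane. -/
def omW : List Vm := [zz 1, zz 0 + zz 1]

/-- An element of order five permuting the five vectors. -/
def rhoW : List Vm := [zz 1, zz 0 + zz 1, ff 0 + zz 1, ee 0 + zz 0 + zz 1]

/-- An element swapping the first two vectors. -/
def iotaW : List Vm := [ff 0 + zz 1, ee 0 + zz 0 + zz 1]

/-- The five vectors. -/
def five : Fin 5 → Vm := ![zz 0, ee 0 + ff 0, zz 1, zz 1 + ee 0, zz 0 + ff 0]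

/-- The element at the first two axes. -/
def ellW : List Vm := sL (ee 1) (ee 2)

end Cfsg.Lib.OrthMult.Two.Eight
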