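import Cfsg.Agent.Lib.OrthMult.Two.Eight.Comm
import Cfsg.Agent.Lib.SpMult.Eight

/-!
# The derived preimage of a vector stabiliser meets the kernel trivially
-/

set_option autoImplicit false
set_option linter.unusedSectionVars false
set_option maxRecDepth 20000

namespace Cfsg.Lib.OrthMult.Two.Eight

open Module
open Cfsg.Lib.Linear.Orth
open Cfsg.Lib.Linear.Symp (spEquiv spEquiv_apply spB_apply sympTransvection_mulVec)
open Cfsg.Lib.OrthMult (glOf mem_ker glOf_mem)
open Cfsg.Lib.SpSix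
open scoped Matrix commutatorElement

theorem fact_zero : Qm (zz 0) = 1 := by decide +kernel

/-- The vector of the symplectic coordinates. -/
def ext6 (x : Fin 3 ⊕ Fin 3 → ZMod 2) : Vm := Sum.elim x 0

theorem ext6_perp : ∀ x, pb (zz 0) (ext6 x) = 0 := by decide +kernel

theorem ext6_form : ∀ x y, pb (ext6 x) (ext6 y) = Cfsg.sympForm 3 (ZMod 2) x y := by decide +kernel

/-- The coordinates inside the perpendicular. -/
noncomputable def emb6 : (Fin 3 ⊕ Fin 3 → ZMod 2) →ₗ[ZMod 2] ker1 Bm (zz 0) :=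
    { toFun := fun x => ⟨ext6 x, LinearMap.mem_ker.2 (by rw [Bm_apply]; exact ext6_perp x)⟩
      map_add' := fun x y => Subtype.ext (funext fun i => by rcases i with i | i <;> simp [ext6])
      map_smul' := fun c x => Subtype.ext (funext fun i => by rcases i with i | i <;> simp [ext6]) }

/-- The coordinate map of the symplectic space. -/
noncomputable def std6 : (Fin 3 ⊕ Fin 3 → ZMod 2) →ₗ[ZMod 2] Wq Bm (zz 0) :=
  (cls Bm (zz 0)).comp emb6

theorem std6_bijective : Function.Bijective std6 := by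
  have hinj : Function.Injective std6 := (injective_iff_map_eq_zero _).2 fun x hx => by
    obtain ⟨t, ht⟩ := Submodule.mem_span_singleton.1 (cls_eq_zero.1 (show cls Bm (zz 0) (emb6 x) = 0 from hx))
    have ht' : t • zz 0 = ext6 x := ht
    funext i
    have h := congrFun ht' (Sum.inl i)
    simp [zz, ext6] at h
    exact h.symm
  refine ⟨hinj, ?_⟩
  refine (LinearMap.injective_iff_surjective_of_finrank_eq_finrank ?_).1 hinj
  have h := Bq_finrank space_m two_zero fact_zero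
  rw [finrank_fintype_fun_eq_card]
  simp only [Fintype.card_sum, Fintype.card_fin] at h ⊢
  omega

/-- The symplectic space in coordinates. -/
noncomputable def phi6 : (Fin 3 ⊕ Fin 3 → ZMod 2) ≃ₗ[ZMod 2] Wq Bm (zz 0) :=
  LinearEquiv.ofBijective std6 std6_bijective

theorem phi6_form (x y : Fin 3 ⊕ Fin 3 → ZMod 2) :
    Bq space_m (zz 0) (phi6 x) (phi6 y) = Cfsg.Lib.Linear.Symp.spB 3 (ZMod 2) x y := by
  show Bq space_m (zz 0) (cls Bm (zz 0) (emb6 x)) (cls Bm (zz 0) (emb6 y)) = _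
  rw [Bq_cls, Bm_apply, spB_apply]
  exact ext6_form x y

/-- The stabiliser as a group of matrices. -/
noncomputable def stabEquiv : SpGrp ≃* G1 Qm Bm (zz 0) :=
  (spEquiv.trans (Cfsg.Lib.SpMult.isoCongr phi6 phi6_form)).trans
    (spEquiv1 space_m two_zero (by simp) fact_zero).symm

/-- The short element as an element of the stabiliser. -/
noncomputable def shortEl (t : Vm) (h : unitsB (sR t (zz 0)) = true)
    (hfix : wAct (sR t (zz 0)) (zz 0) = zz 0) : G1 Qm Bm (zz 0) :=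
  ⟨wGL (sR t (zz 0)), wGL_mem h (by simp [sR]), by rw [wGL_act h, hfix]⟩

theorem stabEquiv_tv (v : Fin 3 ⊕ Fin 3 → ZMod 2) (A : SpGrp) (hA : A.1 = Cfsg.sympTransvection 3 v 1)
    (t : Vm) (h : unitsB (sR t (zz 0)) = true) (hfix : wAct (sR t (zz 0)) (zz 0) = zz 0)
    (hact : ∀ x, ∃ c : ZMod 2, wAct (sR t (zz 0)) (ext6 x) =
      ext6 (x + Cfsg.sympForm 3 (ZMod 2) x v • v) + c • zz 0) :
    stabEquiv A = shortEl t h hfix := by
  apply toSp_injective space_m two_zero (by simp) fact_zero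
  show spEquiv1 space_m two_zero (show 5 ≤ Fintype.card I8m by simp) fact_zero ((spEquiv1 space_m two_zero (show 5 ≤ Fintype.card I8m by simp) fact_zero).symm _) = _
  rw [MulEquiv.apply_symm_apply]
  refine Subtype.ext (LinearEquiv.ext fun u => ?_)
  obtain ⟨x, rfl⟩ := phi6.surjective u
  show phi6 ((spEquiv A : _ ≃ₗ[ZMod 2] _) (phi6.symm (phi6 x))) = _
  rw [LinearEquiv.symm_apply_apply, spEquiv_apply, hA, sympTransvection_mulVec, one_mul, spB_apply]
  show cls Bm (zz 0) _ = cls Bm (zz 0) (resEquiv space_m (zz 0) _ _)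
  rw [cls_eq]
  obtain ⟨c, hc⟩ := hact x
  refine ⟨c, ?_⟩
  show ext6 (x + Cfsg.sympForm 3 (ZMod 2) x v • v) = _
  rw [resEquiv_apply]
  show _ = (wGL (sR t (zz 0))).val *ᵥ ext6 x + c • zz 0
  rw [wGL_act h, hc, add_assoc, ← add_smul, CharTwo.add_self_eq_zero, zero_smul, add_zero]

/-- The two test vectors. -/
def tv01 : Fin 2 → Fin 63 := ![0, 1]

theorem short_act : ∀ (j : Fin 2) (x : Fin 3 ⊕ Fin 3 → ZMod 2), ∃ c : ZMod 2,
    wAct (sR (![ee 0, ee 1] j) (zz 0)) (ext6 x) =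
      ext6 (x + Cfsg.sympForm 3 (ZMod 2) x (vec (tv01 j)) • vec (tv01 j)) + c • zz 0 := by
  decide +kernel

variable {E : Type} [Group E] [Finite E] (σ : E →* ↥(Root Qm Bm ⊤))
variable (hs : Function.Surjective σ) (hc : σ.ker ≤ Subgroup.center E)

include hs hc in
theorem inj_zero : ∀ k ∈ derG σ (G1 Qm Bm (zz 0)), glOf σ k = 1 → k = 1 := by
  intro d₀ hd₀ hd₁
  have hle : G1 Qm Bm (zz 0) ≤ Root Qm Bm ⊤ := fun g hg => hg.1
  have hperf := G1_perfect space_m two_zero card_I8m (by norm_num) fact_zero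
  let θ : ULift.{0} Cov →* G1 Qm Bm (zz 0) :=
    (stabEquiv.toMonoidHom.comp Cfsg.Lib.SpSix.toSp).comp MulEquiv.ulift.toMonoidHom
  have htoSp : Function.Surjective Cfsg.Lib.SpSix.toSp := fun A => by
    obtain ⟨g, hg⟩ : spRep A ∈ proj.range := by rw [proj_range]; exact ⟨_, rfl⟩
    exact ⟨g, spRep_injective (by rw [spRep_toSp, hg])⟩
  obtain ⟨τ, hτs, hτ⟩ := Cfsg.Lib.SpMult.lift_of_trivial Cfsg.Lib.SpMult.perfect_uCov
    Cfsg.Lib.SpMult.noStem_uCov θ ((stabEquiv.surjective.comp htoSp).comp MulEquiv.ulift.surjective)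
    (derGHom σ (G1 Qm Bm (zz 0))) (derGHom_stem σ hs hc hle hperf)
  let g : Fin 2 → Cov := fun j => cWord (tvWord.getD (tv01 j : ℕ) [])
  have hu : ∀ j, unitsB (sR (![ee 0, ee 1] j) (zz 0)) = true ∧
      wAct (sR (![ee 0, ee 1] j) (zz 0)) (zz 0) = zz 0 := by decide +kernel
  have hlift : ∀ j, glOf σ (τ (ULift.up (g j)) : E) = wGL (sR (![ee 0, ee 1] j) (zz 0)) := fun j => by
    have h1 : stabEquiv (Cfsg.Lib.SpSix.toSp (g j)) = shortEl (![ee 0, ee 1] j) (hu j).1 (hu j).2 :=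
      stabEquiv_tv (vec (tv01 j)) _ (Cfsg.Lib.SpMult.toSp_tvWord _) _ _ _ (short_act j)
    exact congrArg Subtype.val ((hτ (ULift.up (g j))).trans h1)
  have hc01 : ⁅τ (ULift.up (g 0)), τ (ULift.up (g 1))⁆ = 1 := by
    refine Subtype.ext ?_
    show ⁅(τ (ULift.up (g 0)) : E), (τ (ULift.up (g 1)) : E)⁆ = 1
    rw [← cm_eq σ hc (hlift 0) (hlift 1)]
    exact cm_short_eq_one σ hs hc
  obtain ⟨c, hcd⟩ := hτs ⟨d₀, hd₀⟩
  have hc1 : θ c = 1 := by rw [← hτ, hcd]; exact Subtype.ext hd₁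
  have hp : proj c.down = 1 := by
    rw [← spRep_toSp, show Cfsg.Lib.SpSix.toSp c.down = 1 from stabEquiv.injective (hc1.trans (map_one stabEquiv).symm),
      map_one]
  have hp2 : proj ⁅g 0, g 1⁆ = 1 := by
    have h1 : θ ⁅ULift.up (g 0), ULift.up (g 1)⁆ = 1 := by
      rw [← hτ, map_commutatorElement, hc01, map_one]
    rw [← spRep_toSp, show Cfsg.Lib.SpSix.toSp ⁅g 0, g 1⁆ = 1 from stabEquiv.injective (h1.trans (map_one stabEquiv).symm),
      map_one]
  have hne : ⁅g 0, g 1⁆ ≠ 1 := fun h1 =>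
    Cfsg.Lib.SpMult.lifts_not_commute (commutatorElement_eq_one_iff_mul_comm.1 h1)
  have : (⟨d₀, hd₀⟩ : derG σ (G1 Qm Bm (zz 0))) = 1 := by
    rw [← hcd]
    rcases ker_cases hp with h1 | h1
    · rw [show c = 1 from ULift.ext _ _ h1, map_one]
    · rw [show c = ⁅ULift.up (g 0), ULift.up (g 1)⁆ from
        ULift.ext _ _ (h1.trans ((ker_cases hp2).resolve_left hne).symm), map_commutatorElement, hc01]
  exact congrArg Subtype.val this

include hs in
/-- The group is transitive on vectors of norm one. -/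
theorem units_move {a b : Vm} (ha : Qm a = 1) (hb : Qm b = 1) :
    ∃ e, (glOf σ e).val *ᵥ a = b := by
  obtain ⟨u, hu, hua, hub, -⟩ := exists_common_unit space_m two_zero card_I8m le_rfl a b a
  obtain ⟨g, -, hg⟩ := derG_trans σ space_m two_zero card_I8m le_rfl hs hu ha hb hua.1 hua.2 hub.1 hub.2
  exact ⟨g, hg⟩

include hs hc in
theorem inj_all (a : Vm) (ha : Qm a = 1) : ∀ k ∈ derG σ (G1 Qm Bm a), glOf σ k = 1 → k = 1 := by
  intro k hk hk1
  obtain ⟨e, he⟩ := units_move σ hs ha fact_zero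
  have h := conj_derG σ space_m e a hk
  rw [he, Subgroup.mem_center_iff.1 (hc (mem_ker σ hk1)) e, mul_inv_cancel_right] at h
  exact inj_zero σ hs hc k h hk1

end Cfsg.Lib.OrthMult.Two.Eight
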