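import Cfsg.Agent.Lib.OrthMult.Two.Eight.Mem

/-!
# The eight-dimensional minus type over two elements has no proper stem extension
-/

set_option autoImplicit false
set_option linter.unusedSectionVars false

namespace Cfsg.Lib.OrthMult.Two.Eight

open Module
open Cfsg.Lib.Linear.Orth
open Cfsg.Lib.OrthMult (orth mem_orth mem_orth_span finrank_orth finrank_span_three finrank_span_four)
open scoped Matrix

theorem not_zero_eq_one {x : ZMod 2} (h : x ≠ 1) : x = 0 := by revert x; decide

theorem unit_above {A S : Submodule (ZMod 2) Vm} (hAS : ¬ A ≤ S) {a : Vm} (ha : Qm a = 1) (haS : a ∈ S)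
    (haA : a ∈ A) (hperp : ∀ x ∈ A, Bm a x = 0) : ∃ u ∈ A, u ∉ S ∧ Qm u = 1 := by
  obtain ⟨x, hx, hxS⟩ := SetLike.not_le_iff_exists.1 hAS
  by_cases hQ : Qm x = 1
  · exact ⟨x, hx, hxS, hQ⟩
  refine ⟨x + a, A.add_mem hx haA, fun h => hxS ((Submodule.add_mem_iff_left _ haS).1 h), ?_⟩
  rw [space_m.add, not_zero_eq_one hQ, ha, space_m.symm, hperp x hx, zero_add, add_zero]

theorem exists_first (a b w w' : Vm) (hw : Qm w = 1) (hwa : Bm w a = 0) (hwb : Bm w b = 0) :
    ∃ u ∈ orth Bm (Submodule.span (ZMod 2) {a, b, w}),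
      u ∉ Submodule.span (ZMod 2) {a, b, w, w'} ∧ Qm u = 1 := by
  have h3 : finrank (ZMod 2) (Submodule.span (ZMod 2) ({a, b, w} : Set Vm)) ≤ 3 := finrank_span_three _ _ _
  have hT : 2 * 3 + 2 ≤ finrank (ZMod 2) (orth Bm (Submodule.span (ZMod 2) ({a, b, w} : Set Vm))) +
      finrank (ZMod 2) (Submodule.span (ZMod 2) ({a, b, w} : Set Vm)) :=
    le_of_eq_of_le card_I8m.symm (finrank_orth (B := Bm) _)
  have h4 : finrank (ZMod 2) (Submodule.span (ZMod 2) ({a, b, w, w'} : Set Vm)) ≤ 4 :=
    finrank_span_four _ _ _ _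
  have hww : Bm w w = 0 := by rw [space_m.self, two_zero, zero_mul]
  refine unit_above (fun hle => ?_) hw (Submodule.subset_span (by simp)) (mem_orth_span.2 fun y hy => ?_)
    fun x hx => mem_orth_span.1 hx w (by simp)
  · have := (Submodule.finrank_mono hle).trans h4
    omega
  · rcases hy with rfl | rfl | rfl
    · rw [space_m.symm]; exact hwa
    · rw [space_m.symm]; exact hwb
    · exact hww

theorem exists_second (a b u w' : Vm) (ha : Qm a = 1) (hb : Qm b = 1) (hu : Qm u = 1) (hw : Qm w' = 1)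
    (hua : Bm u a = 0) (hub : Bm u b = 0) (hwa : Bm w' a = 0) (hwb : Bm w' b = 0) (huw : Bm u w' ≠ 0) :
    ∃ v ∈ orth Bm (Submodule.span (ZMod 2) {a, b, u, w'}),
      v ∉ Submodule.span (ZMod 2) {a, b, u, w'} ∧ Qm v = 1 := by
  set S := Submodule.span (ZMod 2) ({a, b, u, w'} : Set Vm) with hS
  have h4 : finrank (ZMod 2) S ≤ 4 := finrank_span_four _ _ _ _
  have hT : 2 * 3 + 2 ≤ finrank (ZMod 2) (orth Bm S) + finrank (ZMod 2) S :=
    le_of_eq_of_le card_I8m.symm (finrank_orth (B := Bm) _)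
  have hself : ∀ x, Bm x x = 0 := fun x => by rw [space_m.self, two_zero, zero_mul]
  by_cases hab : Bm a b = 0
  · refine unit_above (fun hle => ?_) ha (Submodule.subset_span (by simp)) (mem_orth_span.2 fun y hy => ?_)
      fun x hx => mem_orth_span.1 hx a (by simp)
    · have heq := Submodule.eq_of_le_of_finrank_le hle (le_trans h4 (by omega))
      have hu' : u ∈ orth Bm S := heq.symm ▸ Submodule.subset_span (by simp)
      have h' := mem_orth_span.1 hu' w' (by simp)
      exact huw (by rw [space_m.symm]; exact h')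
    · rcases hy with rfl | rfl | rfl | rfl
      · exact hself _
      · rw [space_m.symm]; exact hab
      · exact hua
      · exact hwa
  have hinf : orth Bm S ⊓ S = ⊥ := by
    refine (Submodule.eq_bot_iff _).2 fun x hx => ?_
    obtain ⟨hxA, hxS⟩ := hx
    obtain ⟨α, y₁, hy₁, rfl⟩ := Submodule.mem_span_insert.1 hxS
    obtain ⟨β, y₂, hy₂, rfl⟩ := Submodule.mem_span_insert.1 hy₁
    obtain ⟨γ, y₃, hy₃, rfl⟩ := Submodule.mem_span_insert.1 hy₂
    obtain ⟨δ, rfl⟩ := Submodule.mem_span_singleton.1 hy₃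
    have e := mem_orth_span.1 hxA
    have ea := e a (by simp)
    have eb := e b (by simp)
    have eu := e u (by simp)
    have ew := e w' (by simp)
    have f1 : Bm a u = 0 := by rw [space_m.symm]; exact hua
    have f2 : Bm a w' = 0 := by rw [space_m.symm]; exact hwa
    have f3 : Bm b u = 0 := by rw [space_m.symm]; exact hub
    have f4 : Bm b w' = 0 := by rw [space_m.symm]; exact hwb
    have f5 : Bm b a ≠ 0 := by rw [space_m.symm]; exact hab
    have f6 : Bm w' u ≠ 0 := by rw [space_m.symm]; exact huw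
    simp only [map_add, map_smul, smul_eq_mul, hself, f1, f2, f3, f4, hua, hub, hwa, hwb, mul_zero,
      zero_add, add_zero] at ea eb eu ew
    rw [(mul_eq_zero.1 ea).resolve_right hab, (mul_eq_zero.1 eb).resolve_right f5,
      (mul_eq_zero.1 eu).resolve_right huw, (mul_eq_zero.1 ew).resolve_right f6]
    simp
  by_contra hne
  push Not at hne
  have hall : ∀ x ∈ orth Bm S, Qm x = 0 := fun x hx => by
    by_cases hxS : x ∈ S
    · have h0 : x ∈ orth Bm S ⊓ S := ⟨hx, hxS⟩
      rw [hinf] at h0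
      rw [(Submodule.mem_bot (ZMod 2)).1 h0]
      exact space_m.zero
    · exact not_zero_eq_one (hne x hx hxS)
  have htop : orth Bm S ⊔ S = ⊤ := by
    refine Submodule.eq_top_of_finrank_eq (le_antisymm (Submodule.finrank_le _) ?_)
    have h0 := Submodule.finrank_sup_add_finrank_inf_eq (orth Bm S) S
    rw [hinf, finrank_bot, add_zero] at h0
    have h : finrank (ZMod 2) (↥(orth Bm S ⊔ S)) = finrank (ZMod 2) (orth Bm S) + finrank (ZMod 2) S := h0
    rw [finrank_fintype_fun_eq_card, card_I8m]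
    omega
  have hne0 : orth Bm S ≠ ⊥ := fun h => by rw [h, finrank_bot] at hT; omega
  obtain ⟨x, hx, hx0⟩ := Submodule.exists_mem_ne_zero_of_ne_bot hne0
  refine hx0 (space_m.nondeg' fun y => ?_)
  obtain ⟨p, hp, s, hs, rfl⟩ := Submodule.mem_sup.1 (htop ▸ Submodule.mem_top : y ∈ orth Bm S ⊔ S)
  rw [map_add, show Bm x s = 0 by rw [space_m.symm]; exact mem_orth.1 hx s hs, add_zero]
  have h := hall _ (Submodule.add_mem _ hx hp)
  rwa [space_m.add, hall x hx, hall p hp, zero_add, zero_add] at h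

/-- Stem extensions of the group are trivial. -/
theorem stem_trivial_eight (E : Type) [Group E] [Finite E] (σ : E →* ↥(Root Qm Bm ⊤))
    (hstem : Cfsg.IsStemExtension σ) : σ.ker = ⊥ :=
  stem_trivial_core σ space_m two_zero card_I8m le_rfl hstem
    (inj_all σ hstem.1 hstem.2.1) (mem_all σ hstem.1 hstem.2.1) exists_first exists_second

end Cfsg.Lib.OrthMult.Two.Eight
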