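import Cfsg.Agent.Lib.OrthMult.Two.Eight.Inj

/-!
# Stabilisers of two perpendicular vectors lift consistently
-/

set_option autoImplicit false
set_option linter.unusedSectionVars false
set_option maxRecDepth 20000

namespace Cfsg.Lib.OrthMult.Two.Eight

open Module
open Cfsg.Lib.Linear.Orth
open Cfsg.Lib.Linear.Symp (spEquiv spEquiv_apply spB_apply sympTransvection_mem sympTransvection_mulVec tvG tv
  tv_zero tv_apply)
open Cfsg.Lib.OrthMult (glOf mem_ker glOf_mem)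
open Cfsg.Lib.SpSix (SpGrp)
open scoped Matrix commutatorElement

/-- The second vector in symplectic coordinates. -/
def xa : Fin 3 ⊕ Fin 3 → ZMod 2 := Pi.single (Sum.inl 0) 1 + Pi.single (Sum.inr 0) 1

/-- The word of a symplectic transvection. -/
def tauW (x : Fin 3 ⊕ Fin 3 → ZMod 2) : List Vm := sR (ext6 x + Qm (ext6 x) • zz 0) (zz 0)

theorem xa_ext : ext6 xa = five 1 := by decide +kernel

theorem five_facts : (∀ i, Qm (five i) = 1) ∧ (∀ i, pb (five i) (five (i + 1)) = 0) ∧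
    (∀ i, five i ≠ five (i + 1)) ∧ (∀ i, wAct ellW (five i) = five i) ∧
    (∀ i, wAct rhoW (five i) = five (i + 1)) ∧ wAct iotaW (five 0) = five 1 ∧
    wAct iotaW (five 1) = five 0 := by decide +kernel

theorem tau_facts : ∀ x, unitsB (tauW x) = true ∧ wAct (tauW x) (zz 0) = zz 0 ∧
    (Cfsg.sympForm 3 (ZMod 2) xa x = 0 → wAct (tauW x) (five 1) = five 1) := by decide +kernel

theorem tau_act : ∀ x y, ∃ c : ZMod 2, wAct (tauW x) (ext6 y) =
    ext6 (y + Cfsg.sympForm 3 (ZMod 2) y x • x) + c • zz 0 := by decide +kernel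

theorem tau_step : ∀ x y, Cfsg.sympForm 3 (ZMod 2) xa x = 0 → Cfsg.sympForm 3 (ZMod 2) xa y = 0 →
    Cfsg.sympForm 3 (ZMod 2) x y = 1 → sameW (tauW x ++ tauW y) (tauW (x + y) ++ tauW x) = true := by
  decide +kernel

theorem tau_chain : ∀ x, Cfsg.sympForm 3 (ZMod 2) xa x = 0 → x = 0 ∨ x = xa ∨
    ∃ y, Cfsg.sympForm 3 (ZMod 2) xa y = 0 ∧ Cfsg.sympForm 3 (ZMod 2) (Pi.single (Sum.inl 1) 1) y = 1 ∧
      Cfsg.sympForm 3 (ZMod 2) x y = 1 := by decide +kernel

variable {E : Type} [Group E] [Finite E] (σ : E →* ↥(Root Qm Bm ⊤))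
variable (hs : Function.Surjective σ) (hc : σ.ker ≤ Subgroup.center E)

/-- The elements with a common lift in the two derived preimages. -/
noncomputable def agreeM : Subgroup (GL I8m (ZMod 2)) :=
  (derG σ (G1 Qm Bm (five 0)) ⊓ derG σ (G1 Qm Bm (five 1))).map (glOf σ)

include hs in
theorem exists_sec {a : Vm} (ha : Qm a = 1) {l : List Vm} (h : unitsB l = true) (hlen : l.length % 2 = 0)
    (hfix : wAct l a = a) : ∃ d ∈ derG σ (G1 Qm Bm a), glOf σ d = wGL l :=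
  exists_derG σ hs (show G1 Qm Bm a ≤ Root Qm Bm ⊤ from fun g hg => hg.1)
    (G1_perfect space_m two_zero card_I8m le_rfl ha) ⟨wGL_mem h hlen, by rw [wGL_act h, hfix]⟩

include hs hc in
theorem sec_unique {a : Vm} (ha : Qm a = 1) {d d' : E} (hd : d ∈ derG σ (G1 Qm Bm a))
    (hd' : d' ∈ derG σ (G1 Qm Bm a)) (h : glOf σ d = glOf σ d') : d = d' :=
  inv_mul_eq_one.1 (inj_all σ hs hc a ha _ (mul_mem (inv_mem hd) hd')
    (by rw [map_mul, map_inv, h, inv_mul_cancel]))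

include hs hc in
/-- The long element has a common lift. -/
theorem ell_agree : wGL ellW ∈ agreeM σ := by
  obtain ⟨hQ, -, -, hell, hrho, hi0, hi1⟩ := five_facts
  have hu : unitsB ellW = true ∧ unitsB rhoW = true ∧ unitsB iotaW = true := by decide +kernel
  choose sec hsec hsec' using fun i => exists_sec σ hs (hQ i) hu.1 (by simp [ellW, sL, sR]) (hell i)
  obtain ⟨e, he⟩ := exists_lift σ hs hu.2.1 (by simp [rhoW])
  obtain ⟨f, hf⟩ := exists_lift σ hs hu.2.2 (by simp [iotaW])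
  have hz : ∀ i j, (sec i)⁻¹ * sec j ∈ Subgroup.center E := fun i j =>
    hc (mem_ker σ (by rw [map_mul, map_inv, hsec', hsec', inv_mul_cancel]))
  have hmove : ∀ (k : E) (l : List Vm), unitsB l = true → glOf σ k = wGL l →
      wGL l * wGL ellW = wGL ellW * wGL l → ∀ i j, wAct l (five i) = five j →
        k * sec i * k⁻¹ = sec j := fun k l hl hk hcomm i j hij => by
    refine sec_unique σ hs hc (hQ j) ?_ (hsec j) ?_
    · have := conj_derG σ space_m k (five i) (hsec i)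
      rwa [hk, wGL_act hl, hij] at this
    · rw [map_mul, map_mul, map_inv, hk, hsec', hsec', hcomm, mul_inv_cancel_right]
  have hcr : wGL rhoW * wGL ellW = wGL ellW * wGL rhoW := by
    have := wGL_eq (l := rhoW ++ ellW) (l' := ellW ++ rhoW) (by decide +kernel)
    simpa only [wGL_append] using this
  have hci : wGL iotaW * wGL ellW = wGL ellW * wGL iotaW := by
    have := wGL_eq (l := iotaW ++ ellW) (l' := ellW ++ iotaW) (by decide +kernel)
    simpa only [wGL_append] using this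
  have hcen : ∀ (k : E) i j i' j', k * sec i * k⁻¹ = sec i' → k * sec j * k⁻¹ = sec j' →
      (sec i)⁻¹ * sec j = (sec i')⁻¹ * sec j' := fun k i j i' j' h1 h3 => by
    rw [← h1, ← h3]
    calc (sec i)⁻¹ * sec j = k * ((sec i)⁻¹ * sec j) * k⁻¹ := by
          rw [Subgroup.mem_center_iff.1 (hz i j) k, mul_inv_cancel_right]
      _ = _ := by group
  set z := (sec 0)⁻¹ * sec 1 with hzdef
  have hi : ∀ i, (sec i)⁻¹ * sec (i + 1) = (sec (i + 1))⁻¹ * sec (i + 1 + 1) := fun i =>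
    hcen e _ _ _ _ (hmove e _ hu.2.1 he hcr _ _ (hrho i)) (hmove e _ hu.2.1 he hcr _ _ (hrho (i + 1)))
  have h1 : (sec 1)⁻¹ * sec 2 = z := (hi 0).symm
  have h2 : (sec 2)⁻¹ * sec 3 = z := (hi 1).symm.trans h1
  have h3 : (sec 3)⁻¹ * sec 4 = z := (hi 2).symm.trans h2
  have h4 : (sec 4)⁻¹ * sec 0 = z := (hi 3).symm.trans h3
  have hinv : z = z⁻¹ := by
    have := hcen f 0 1 1 0 (hmove f _ hu.2.2 hf hci _ _ hi0) (hmove f _ hu.2.2 hf hci _ _ hi1)
    rw [hzdef, mul_inv_rev, inv_inv]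
    exact this
  have h5 : z * (z * (z * (z * z))) = 1 := by
    nth_rw 1 [hzdef]
    nth_rw 1 [← h1]
    nth_rw 1 [← h2]
    nth_rw 1 [← h3]
    nth_rw 1 [← h4]
    group
  have hzz : z * z = 1 := by nth_rw 1 [hinv]; exact inv_mul_cancel z
  have hz1 : z = 1 := by
    rwa [hzz, mul_one, ← mul_assoc z z, hzz, one_mul] at h5
  have heq : sec 0 = sec 1 := inv_mul_eq_one.1 (hzdef.symm.trans hz1)
  exact ⟨sec 0, ⟨hsec 0, heq ▸ hsec 1⟩, hsec' 0⟩

include hs hc in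
/-- Commutators of the common stabiliser have common lifts. -/
theorem comm_agree {g h : GL I8m (ZMod 2)} (hg : g ∈ G1 Qm Bm (five 0) ⊓ G1 Qm Bm (five 1))
    (hh : h ∈ G1 Qm Bm (five 0) ⊓ G1 Qm Bm (five 1)) : ⁅g, h⁆ ∈ agreeM σ := by
  obtain ⟨hQ, -⟩ := five_facts
  have hle : ∀ i, G1 Qm Bm (five i) ≤ Root Qm Bm ⊤ := fun i x hx => hx.1
  have hp : ∀ i, ⁅G1 Qm Bm (five i), G1 Qm Bm (five i)⁆ = G1 Qm Bm (five i) := fun i =>
    G1_perfect space_m two_zero card_I8m le_rfl (hQ i)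
  obtain ⟨a, ha, hag⟩ := exists_derG σ hs (hle 0) (hp 0) hg.1
  obtain ⟨b, hb, hbh⟩ := exists_derG σ hs (hle 0) (hp 0) hh.1
  obtain ⟨a', ha', hag'⟩ := exists_derG σ hs (hle 1) (hp 1) hg.2
  obtain ⟨b', hb', hbh'⟩ := exists_derG σ hs (hle 1) (hp 1) hh.2
  have e : ⁅a, b⁆ = ⁅a', b'⁆ := by
    rw [← cm_eq σ hc hag hbh, ← cm_eq σ hc hag' hbh']
  refine Subgroup.mem_map.2 ⟨⁅a, b⁆, Subgroup.mem_inf.2 ⟨?_, e ▸ ?_⟩,
    by rw [map_commutatorElement, hag, hbh]⟩
  · rw [commutatorElement_def]; exact mul_mem (mul_mem (mul_mem ha hb) (inv_mem ha)) (inv_mem hb)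
  · rw [commutatorElement_def]; exact mul_mem (mul_mem (mul_mem ha' hb') (inv_mem ha')) (inv_mem hb')

theorem tau_mem_pair {x : Fin 3 ⊕ Fin 3 → ZMod 2} (hx : Cfsg.sympForm 3 (ZMod 2) xa x = 0) :
    wGL (tauW x) ∈ G1 Qm Bm (five 0) ⊓ G1 Qm Bm (five 1) := by
  obtain ⟨hu, h0, h1⟩ := tau_facts x
  exact ⟨⟨wGL_mem hu (by simp [tauW, sR]), by rw [wGL_act hu]; exact h0⟩,
    ⟨wGL_mem hu (by simp [tauW, sR]), by rw [wGL_act hu]; exact h1 hx⟩⟩

include hs hc in
theorem tau_same {x y : Fin 3 ⊕ Fin 3 → ZMod 2} (hx : Cfsg.sympForm 3 (ZMod 2) xa x = 0)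
    (hy : Cfsg.sympForm 3 (ZMod 2) xa y = 0) (hxy : Cfsg.sympForm 3 (ZMod 2) x y = 1) :
    (wGL (tauW (x + y)))⁻¹ * wGL (tauW y) ∈ agreeM σ := by
  have e := wGL_eq (tau_step x y hx hy hxy)
  simp only [wGL_append] at e
  have h : (wGL (tauW (x + y)))⁻¹ * wGL (tauW y) = ⁅(wGL (tauW y))⁻¹, wGL (tauW x)⁆⁻¹ := by
    have e' : wGL (tauW (x + y)) = wGL (tauW x) * wGL (tauW y) * (wGL (tauW x))⁻¹ :=
      eq_mul_inv_of_mul_eq e.symm
    rw [e', commutatorElement_def]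
    group
  rw [h]
  exact inv_mem (comm_agree σ hs hc (inv_mem (tau_mem_pair hy)) (tau_mem_pair hx))

include hs hc in
theorem tau_agree {x : Fin 3 ⊕ Fin 3 → ZMod 2} (hx : Cfsg.sympForm 3 (ZMod 2) xa x = 0) :
    wGL (tauW x) ∈ agreeM σ := by
  set M := agreeM σ
  let x0 : Fin 3 ⊕ Fin 3 → ZMod 2 := Pi.single (Sum.inl 1) 1
  let x1 : Fin 3 ⊕ Fin 3 → ZMod 2 := Pi.single (Sum.inl 2) 1
  have hcm := @comm_agree _ _ _ σ hs hc
  have hg := @tau_mem_pair
  -- a chain through a common partner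
  have hrel : ∀ p q : Fin 3 ⊕ Fin 3 → ZMod 2, Cfsg.sympForm 3 (ZMod 2) xa p = 0 →
      Cfsg.sympForm 3 (ZMod 2) xa q = 0 → Cfsg.sympForm 3 (ZMod 2) p q = 1 →
      (wGL (tauW p))⁻¹ * wGL (tauW q) ∈ M := fun p q hp hq hpq => by
    have hsw : Cfsg.sympForm 3 (ZMod 2) q p = 1 := by
      revert hpq; revert p q; decide +kernel
    have h1 := tau_same σ hs hc hp hq hpq
    have h2 := tau_same σ hs hc hq hp hsw
    rw [add_comm q p] at h2
    have := mul_mem (inv_mem h2) h1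
    convert this using 1
    group
  have hgood : ∀ p, Cfsg.sympForm 3 (ZMod 2) xa p = 0 → p ≠ 0 → p ≠ xa →
      (wGL (tauW x0))⁻¹ * wGL (tauW p) ∈ M := fun p hp h0 ha => by
    obtain ⟨y, hy, hy0, hyp⟩ := ((tau_chain p hp).resolve_left h0).resolve_left ha
    have h1 := hrel x0 y (by decide +kernel) hy hy0
    have h2 := hrel p y hp hy hyp
    have := mul_mem h1 (inv_mem h2)
    convert this using 1
    group
  have hx0g := hg (x := x0) (by decide +kernel)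
  -- the long element is a product of three short ones
  have hx0 : wGL (tauW x0) ∈ M := by
    have hl : wGL ellW = wGL (tauW (x0 + x1)) * (wGL (tauW x0) * wGL (tauW x1)) := by
      rw [← wGL_append, ← wGL_append]
      exact wGL_eq (by decide +kernel)
    have hell : wGL ellW ∈ M := ell_agree σ hs hc
    have hb := hgood x1 (by decide +kernel) (by decide +kernel) (by decide +kernel)
    have hc' := hgood (x0 + x1) (by decide +kernel) (by decide +kernel) (by decide +kernel)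
    have hsq : wGL (tauW x0) * wGL (tauW x0) = 1 := by
      rw [← wGL_append, wGL_eq (l := tauW x0 ++ tauW x0) (l' := []) (by decide +kernel), wGL_nil]
    have hcj : ∀ b ∈ M, b ∈ G1 Qm Bm (five 0) ⊓ G1 Qm Bm (five 1) → wGL (tauW x0) * b * (wGL (tauW x0))⁻¹ ∈ M :=
      fun b hb hbH => by
        have := mul_mem (hcm hx0g hbH) hb
        rwa [commutatorElement_def, inv_mul_cancel_right] at this
    rw [hl] at hell
    set t := wGL (tauW x0) with ht
    set c1 := t⁻¹ * wGL (tauW (x0 + x1)) with hc1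
    set b1 := t⁻¹ * wGL (tauW x1) with hb1
    have hb1H : b1 ∈ G1 Qm Bm (five 0) ⊓ G1 Qm Bm (five 1) :=
      mul_mem (inv_mem hx0g) (hg (by decide +kernel))
    have hc1H : c1 ∈ G1 Qm Bm (five 0) ⊓ G1 Qm Bm (five 1) :=
      mul_mem (inv_mem hx0g) (hg (by decide +kernel))
    have e : wGL (tauW (x0 + x1)) * (t * wGL (tauW x1)) = (t * c1 * t⁻¹) * (t * t) * (t * b1) := by
      rw [hc1, hb1]; group
    rw [e, hsq, mul_one] at hell
    have := mul_mem (mul_mem (inv_mem (hcj c1 hc' hc1H)) hell) (inv_mem hb)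
    convert this using 1
    group
  by_cases h0 : x = 0
  · rw [h0, wGL_eq (l := tauW 0) (l' := []) (by decide +kernel), wGL_nil]
    exact one_mem _
  by_cases ha : x = xa
  · subst ha
    have hgen : ∀ p, Cfsg.sympForm 3 (ZMod 2) xa p = 0 → p ≠ 0 → p ≠ xa → wGL (tauW p) ∈ M :=
      fun p hp h0 ha => by
        have := mul_mem hx0 (hgood p hp h0 ha)
        rwa [mul_inv_cancel_left] at this
    rw [wGL_eq (l := tauW xa) (l' := tauW (x0 + xa) ++ (tauW x0 ++ (tauW (x1 + xa) ++ (tauW x1 ++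
      (tauW (x0 + x1 + xa) ++ tauW (x0 + x1)))))) (by decide +kernel)]
    simp only [wGL_append]
    refine mul_mem (hgen _ ?_ ?_ ?_) (mul_mem (hgen _ ?_ ?_ ?_) (mul_mem (hgen _ ?_ ?_ ?_) (mul_mem (hgen _ ?_ ?_ ?_)
      (mul_mem (hgen _ ?_ ?_ ?_) (hgen _ ?_ ?_ ?_))))) <;> decide +kernel
  have := mul_mem hx0 (hgood x hx h0 ha)
  rwa [mul_inv_cancel_left] at this

theorem stabEquiv_tau (x : Fin 3 ⊕ Fin 3 → ZMod 2) :
    (stabEquiv ⟨_, sympTransvection_mem x 1⟩ : GL I8m (ZMod 2)) = wGL (tauW x) :=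
  congrArg Subtype.val (stabEquiv_tv x _ rfl _ (tau_facts x).1 (tau_facts x).2.1 (tau_act x))

include hs hc in
/-- The common stabiliser lifts consistently. -/
theorem pair_agree : G1 Qm Bm (five 0) ⊓ G1 Qm Bm (five 1) ≤ agreeM σ := by
  rintro g ⟨hg0, hg1⟩
  have hA := Bq_alt space_m two_zero (zz 0)
  let r := spEquiv1 space_m two_zero (show 5 ≤ Fintype.card I8m by simp) fact_zero
  have hperp : Bm (zz 0) (five 1) = 0 := by
    rw [Bm_apply]; exact five_facts.2.1 0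
  have hbb : phi6 xa = cls Bm (zz 0) ⟨five 1, LinearMap.mem_ker.2 hperp⟩ := by
    show cls Bm (zz 0) (emb6 xa) = _
    congr 1
    exact Subtype.ext xa_ext
  have hfix : ((r ⟨g, hg0⟩ : Cfsg.Lib.Linear.Symp.iso (Bq space_m (zz 0))) :
      Wq Bm (zz 0) ≃ₗ[ZMod 2] Wq Bm (zz 0)) (phi6 xa) = phi6 xa := by
    rw [hbb]
    show cls Bm (zz 0) (resEquiv space_m (zz 0) ⟨g, hg0⟩ ⟨five 1, _⟩) = _
    congr 1
    exact Subtype.ext hg1.2
  have hT : ((r ⟨g, hg0⟩ : Cfsg.Lib.Linear.Symp.iso (Bq space_m (zz 0))) :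
      Wq Bm (zz 0) ≃ₗ[ZMod 2] Wq Bm (zz 0)) ∈
      Cfsg.Lib.Linear.Symp.T hA (Submodule.span (ZMod 2) {phi6 xa}) := by
    rw [← Cfsg.Lib.SpMult.fixer_eq_T (Bq_nondeg space_m two_zero (zz 0)) hA,
      Cfsg.Lib.Linear.Symp.mem_fixer]
    refine ⟨(r ⟨g, hg0⟩).2, fun y hy => ?_⟩
    obtain ⟨c, rfl⟩ := Submodule.mem_span_singleton.1 hy
    rw [map_smul, hfix]
  suffices H : Cfsg.Lib.Linear.Symp.T hA (Submodule.span (ZMod 2) {phi6 xa}) ≤
      ((agreeM σ).comap ((G1 Qm Bm (zz 0)).subtype.comp r.symm.toMonoidHom)).map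
        (Cfsg.Lib.Linear.Symp.iso (Bq space_m (zz 0))).subtype by
    obtain ⟨y, hy, hyg⟩ := H hT
    have he : y = r ⟨g, hg0⟩ := Subtype.ext hyg
    rw [he] at hy
    have h' : ((r.symm (r ⟨g, hg0⟩)) : GL I8m (ZMod 2)) ∈ agreeM σ := hy
    rwa [r.symm_apply_apply] at h'
  rw [Cfsg.Lib.Linear.Symp.T, Subgroup.closure_le]
  rintro _ ⟨v, hv, c, rfl⟩
  refine ⟨tvG hA v c, ?_, rfl⟩
  obtain ⟨x, rfl⟩ := phi6.surjective v
  have hx : Cfsg.sympForm 3 (ZMod 2) xa x = 0 := by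
    rw [← spB_apply, ← phi6_form]
    exact hv _ (Submodule.mem_span_singleton_self _)
  rcases (show c = 0 ∨ c = 1 by revert c; decide) with rfl | rfl
  · rw [show tvG hA (phi6 x) (0 : ZMod 2) = 1 from Subtype.ext (tv_zero hA _)]
    exact one_mem _
  have heq : stabEquiv ⟨_, sympTransvection_mem x 1⟩ = r.symm (tvG hA (phi6 x) 1) := by
    show r.symm _ = _
    congr 1
    refine Subtype.ext (LinearEquiv.ext fun u => ?_)
    obtain ⟨y, rfl⟩ := phi6.surjective u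
    show phi6 ((spEquiv ⟨_, sympTransvection_mem x 1⟩ : _ ≃ₗ[ZMod 2] _) (phi6.symm (phi6 y))) =
      phi6 y + ((1 : ZMod 2) * Bq space_m (zz 0) (phi6 y) (phi6 x)) • phi6 x
    rw [LinearEquiv.symm_apply_apply, spEquiv_apply, sympTransvection_mulVec, map_add, map_smul, phi6_form]
  show (r.symm (tvG hA (phi6 x) 1) : GL I8m (ZMod 2)) ∈ agreeM σ
  rw [← heq, stabEquiv_tau]
  exact tau_agree σ hs hc hx

include hs hc in
/-- A lift fixing the perpendicular vector lies in its derived preimage. -/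
theorem mem_all (w a : Vm) (hw : Qm w = 1) (ha : Qm a = 1) (hwa : Bm w a = 0) (hne : w ≠ a) :
    ∀ g ∈ derG σ (G1 Qm Bm w), (glOf σ g).val *ᵥ a = a → g ∈ derG σ (G1 Qm Bm a) := by
  intro h hh hha
  obtain ⟨hQ, hB, hN, -⟩ := five_facts
  obtain ⟨e1, he1⟩ := units_move σ hs (hQ 0) hw
  set a' := (glOf σ e1).val *ᵥ five 1 with ha'
  have hiso := glOf_mem σ space_m e1
  have ha'Q : Qm a' = 1 := by rw [ha', mem_iso.1 hiso, hQ]
  have ha'B : Bm w a' = 0 := by rw [ha', ← he1, space_m.B_act hiso, Bm_apply]; exact hB 0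
  have ha'N : w ≠ a' := fun h' => (show five 0 ≠ five 1 from hN 0) (by
    have := congrArg ((glOf σ e1)⁻¹.val *ᵥ ·) (he1.trans (h'.trans ha'))
    simpa only [inv_act] using this)
  obtain ⟨d, hd, hda⟩ := derG_trans σ space_m two_zero card_I8m le_rfl hs hw ha'Q ha ha'B ha'N hwa hne
  set e := d * e1 with he
  have hew : (glOf σ e).val *ᵥ five 0 = w := by
    rw [he, map_mul, mul_act, he1, (derG_le σ _ hd).2]
  have hea : (glOf σ e).val *ᵥ five 1 = a := by rw [he, map_mul, mul_act, ← ha', hda]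
  have hk : e⁻¹ * h * e ∈ derG σ (G1 Qm Bm (five 0)) := by
    have := conj_derG σ space_m e⁻¹ w hh
    rw [inv_inv, map_inv] at this
    rwa [show (glOf σ e)⁻¹.val *ᵥ w = five 0 by rw [← hew, inv_act]] at this
  have hk1 : glOf σ (e⁻¹ * h * e) ∈ G1 Qm Bm (five 1) := by
    refine ⟨(σ _).2, ?_⟩
    rw [map_mul, map_mul, map_inv, mul_act, mul_act, hea, hha]
    rw [← hea, inv_act]
  obtain ⟨y, ⟨hy0, hy1⟩, hyk⟩ := pair_agree σ hs hc ⟨derG_le σ _ hk, hk1⟩
  rw [sec_unique σ hs hc (hQ 0) hy0 hk hyk] at hy1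
  have := conj_derG σ space_m e (five 1) hy1
  rw [hea] at this
  convert this using 1
  group

end Cfsg.Lib.OrthMult.Two.Eight
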