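import Cfsg.Agent.Lib.OrthMult.Two.Eight.Main
import Cfsg.Agent.Lib.OrthMult.Two.Main

/-!
# The multiplier of the eight-dimensional minus type over two elements
-/

set_option autoImplicit false
set_option linter.unusedSectionVars false

namespace Cfsg.Lib.OrthMult.Two.Eight

open Cfsg.Lib.Linear.Orth
open Cfsg.Lib.OrthMult (omegaEquiv)
open scoped Matrix

theorem multiplier_zmod : Cfsg.HasCyclicSchurMultiplier (Cfsg.POmega (ZMod 2) Qm) 1 := by
  let e : Cfsg.POmega (ZMod 2) Qm ≃* ↥(Root Qm Bm ⊤) :=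
    ((QuotientGroup.quotientMulEquivOfEq (omega_center_bot space_m two_zero (by rw [card_I8m]; norm_num))).trans
      QuotientGroup.quotientBot).trans (omegaEquiv space_m (by rw [card_I8m]; norm_num))
  refine Cfsg.Lib.Chev.trivial_multiplier fun Γ _ _ σ hσ => ?_
  have hk : (e.toMonoidHom.comp σ).ker = σ.ker := by ext x; simp [MonoidHom.mem_ker]
  rw [← hk]
  exact stem_trivial_eight Γ (e.toMonoidHom.comp σ)
    ⟨e.surjective.comp hσ.1, hk.le.trans hσ.2.1, hk.le.trans hσ.2.2⟩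

universe u

variable {F : Type u} [Field F]

/-- The group along a ring isomorphism. -/
theorem pomega_congr (φ : ZMod 2 ≃+* F) :
    Nonempty (Cfsg.POmega (ZMod 2) Qm ≃* Cfsg.POmega F (Cfsg.quadFormMinus 3 F 1 1)) := by
  let e0 : GL I8m (ZMod 2) ≃* GL I8m F := Units.mapEquiv φ.mapMatrix.toMulEquiv
  have hv : ∀ (g : GL I8m (ZMod 2)) (v : Vm), (e0 g).1 *ᵥ (φ ∘ v) = φ ∘ (g.1 *ᵥ v) := fun g v => by
    funext i
    simp [e0, Matrix.mulVec, dotProduct, map_sum]
  have hq : ∀ v : Vm, Cfsg.quadFormMinus 3 F 1 1 (φ ∘ v) = φ (Qm v) := fun v => by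
    simp only [Qm, Cfsg.quadFormMinus, Function.comp_apply, map_add, map_sum, map_mul, map_pow, map_one]
  have hO : ∀ g, e0 g ∈ Cfsg.isometryGroup F (Cfsg.quadFormMinus 3 F 1 1) ↔
      g ∈ Cfsg.isometryGroup (ZMod 2) Qm := fun g => by
    rw [mem_iso, mem_iso]
    refine ⟨fun h v => φ.injective ?_, fun h v => ?_⟩
    · rw [← hq, ← hq, ← hv, h]
    · obtain ⟨w, rfl⟩ : ∃ w, v = φ ∘ w := ⟨φ.symm ∘ v, by funext i; simp⟩
      rw [hv, hq, hq]
      exact congrArg φ (h w)
  let eO : ↥(Cfsg.isometryGroup (ZMod 2) Qm) ≃* ↥(Cfsg.isometryGroup F (Cfsg.quadFormMinus 3 F 1 1)) :=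
    (e0.subgroupMap _).trans (MulEquiv.subgroupCongr (by
      ext x
      obtain ⟨g, rfl⟩ := e0.surjective x
      rw [hO]
      simp))
  let eΩ : ↥(Cfsg.Omega (ZMod 2) Qm) ≃* ↥(Cfsg.Omega F (Cfsg.quadFormMinus 3 F 1 1)) :=
    (eO.subgroupMap _).trans (MulEquiv.subgroupCongr (by
      show (commutator _).map _ = commutator _
      rw [commutator_def, commutator_def, Subgroup.map_commutator,
        Subgroup.map_top_of_surjective _ eO.surjective]))
  refine ⟨QuotientGroup.congr _ _ eΩ ?_⟩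
  ext x
  refine ⟨?_, fun hx => ⟨eΩ.symm x, Subgroup.mem_center_iff.2 fun y => eΩ.injective ?_, eΩ.apply_symm_apply x⟩⟩
  · rintro ⟨z, hz, rfl⟩
    refine Subgroup.mem_center_iff.2 fun y => ?_
    obtain ⟨w, rfl⟩ := eΩ.surjective y
    simpa using congrArg eΩ (Subgroup.mem_center_iff.1 hz w)
  · simpa using Subgroup.mem_center_iff.1 hx (eΩ y)

/-- The multiplier over any field with two elements. -/
theorem multiplier_of_card [Fintype F] (hF : Fintype.card F = 2) (a b : F)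
    (hab : ∀ z₁ z₂ : F, z₁ ^ 2 + a * z₁ * z₂ + b * z₂ ^ 2 = 0 → z₁ = 0 ∧ z₂ = 0) :
    Cfsg.HasCyclicSchurMultiplier (Cfsg.POmega F (Cfsg.quadFormMinus 3 F a b)) 1 := by
  let φ := ZMod.ringEquivOfPrime F Nat.prime_two hF
  have hall : ∀ x : F, x = 0 ∨ x = 1 := fun x => by
    obtain ⟨y, rfl⟩ := φ.surjective x
    rcases (show y = 0 ∨ y = 1 by revert y; decide) with rfl | rfl
    · exact Or.inl (map_zero φ)
    · exact Or.inr (map_one φ)
  have hb : b = 1 := (hall b).resolve_left fun h => one_ne_zero (hab 0 1 (by simp [h])).2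
  have ha : a = 1 := (hall a).resolve_left fun h => one_ne_zero (hab 1 1 (by
    rw [h, hb]
    haveI : CharP F 2 := CharTwo.of_one_ne_zero_of_two_eq_zero one_ne_zero (by
      rw [← map_ofNat φ 2, two_zero, map_zero])
    simp [CharTwo.add_self_eq_zero])).1
  subst ha hb
  obtain ⟨e⟩ := pomega_congr φ
  exact Cfsg.Lib.SpSix.hasSchur_of_equiv e multiplier_zmod

end Cfsg.Lib.OrthMult.Two.Eight
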